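import Mathlib
import Cfsg.Agent.Base
import Cfsg.Agent.Lib.PFus.Main
import Cfsg.Agent.Lib.Fusion.Comp
import Cfsg.Agent.Lib.Fusion.CentPre

/-! # The 2-fusion system of a simple group has at most one component -/

set_option autoImplicit false
set_option linter.unusedSectionVars false
set_option linter.style.haveILetI false
set_option linter.unusedVariables false

namespace H47.PF

open Subgroup Cfsg H69 Gold
open Cfsg.FusionSystem hiding center
open scoped commutatorElement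

universe u

section abstract
variable {Ω : Type*} [Group Ω] [Finite Ω] {S T U W W' : Subgroup Ω} {F : FusionSystem S}
  {E : FusionSystem T} {D : FusionSystem U} {C : FusionSystem W} {C' : FusionSystem W'} {p : ℕ}
  [Fact p.Prime] (hS : IsPGroup p S) (hF : F.IsSaturated p) (h0 : F.core = ⊥)
include hS hF h0

theorem sub_core (h : D.IsSubnormalIn F p) : D.core = ⊥ := by
  rw [H91.IsSubnormalIn.core_eq hS hF h, h0, bot_inf_eq]

theorem ab_bot (h : D.IsSubnormalIn F p) {R : Subgroup Ω} (hR : D.StronglyClosed R)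
    (hc : ∀ x ∈ R, ∀ y ∈ R, x * y = y * x) : R = ⊥ :=
  le_bot_iff.1 (sub_core hS hF h0 h ▸ H91.IsNormal.le_core' (H90.isNormal_of_abelian
    (hS.to_le (H90.sub_le (H91.IsSubnormalIn.sub h))) (H91.IsSubnormalIn.isSaturated h hF) hR hc))

theorem exists_comp (h : D.IsSubnormalIn F p) (hU : U ≠ ⊥) :
    ∃ (W : Subgroup Ω) (C : FusionSystem W), C.IsComponentIn F p ∧ C.IsSubsystemOf D := by
  have hD := H91.IsSubnormalIn.isSaturated h hF
  have := mt (H90.isConstrained_iff_no_component (hS.to_le (H90.sub_le (H91.IsSubnormalIn.sub h)))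
    hD).2 fun e => hU (by
      have h1 := (H91.isConstrained_iff_core.1 e).2
      rw [sub_core hS hF h0 h] at h1
      exact le_bot_iff.1 fun x hx => h1 ⟨hx, fun y hy => by rw [mem_bot.1 hy]; simp⟩)
  obtain ⟨W, C, hC⟩ := not_not.1 this
  exact ⟨W, C, ⟨H91.IsSubnormalIn.trans' hC.1 h, hC.2⟩, H91.IsSubnormalIn.sub hC.1⟩

omit h0 hS hF in
theorem comp_ne_bot (hC : C.IsComponentIn F p) : W ≠ ⊥ := fun e =>
  H91.Quasisimple.center_ne hC.2 (le_antisymm (H91.center_le' C) (e.le.trans bot_le))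

omit h0 hF in
theorem comp_sub (hE : E.IsLayerOf F p) (hC : C.IsComponentIn F p) (hC' : C'.IsComponentIn F p)
    (h : W ≤ W') : C.IsSubsystemOf C' :=
  H90.sub_of_isComponentIn (hS.to_le (H91.IsNormalIn.inv hE.1).le)
    (H90.isComponentIn_of_le hS hC hE.1 (H90.sub_le (hE.2.1 _ _ hC)))
    (H90.isNormalIn_layer_of_isComponentIn hS hC' hE) h

theorem comp_comm (hE : E.IsLayerOf F p) (hC : C.IsComponentIn F p) (hC' : C'.IsComponentIn F p)
    (h : W ≠ W') : W' ≤ 𝐂(W) := by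
  have key : ∀ {W W' : Subgroup Ω} {C : FusionSystem W} {C' : FusionSystem W'},
      C.IsComponentIn F p → C'.IsComponentIn F p → W' ≤ W ∨ W' ≤ 𝐂(W) := fun hC hC' =>
    (H90.sub_or_le_cent (hS.to_le (H91.IsNormalIn.inv hE.1).le)
      (H90.isComponentIn_of_le hS hC' hE.1 (H90.sub_le (hE.2.1 _ _ hC')))
      (H90.isNormalIn_layer_of_isComponentIn hS hC hE)).imp H90.sub_le
      fun e => (e.trans (H90.cent_le _ _ _)).trans inf_le_right
  refine (key hC hC').elim (fun h1 => (key hC' hC).elim (fun h2 => (h (le_antisymm h2 h1)).elim)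
    le_centralizer_iff.1) id

/-- With only one component the system is almost simple. -/
theorem almost_simple (hC : C.IsComponentIn F p) (hu : ∀ (W' : Subgroup Ω) (C' : FusionSystem W'),
    C'.IsComponentIn F p → W' = W) : C.IsNormalIn F p ∧ C.IsSimple p ∧
      ∀ (T' : Subgroup Ω) (E' : FusionSystem T'), E'.IsNormalIn F p → T' ≠ ⊥ → C.IsSubsystemOf E' := by
  obtain ⟨T, E, hE⟩ := H90.exists_layer hS hF
  have key : ∀ {U : Subgroup Ω} {D : FusionSystem U}, D.IsSubnormalIn F p → U ≠ ⊥ →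
      C.IsSubsystemOf D := fun h hU => by
    obtain ⟨W', C', h1, h2⟩ := exists_comp hS hF h0 h hU
    exact H90.sub_trans (comp_sub hS hE hC h1 (hu _ _ h1).ge) h2
  have hW := H90.sub_le (hE.2.1 _ _ hC)
  refine ⟨H91.Quasisimple.isNormalIn hS hC.2 (H91.isWeaklyNormalIn_iff.2 ⟨hC.2.1, hF,
    H90.inv_of_char (H90.inv_layer hS hC hE) (H91.IsNormalIn.inv hE.1) fun α hα => ?_⟩),
    ⟨hC.2.1, comp_ne_bot hC, fun U D hD => or_iff_not_imp_left.2 fun hU => ?_⟩,
    fun T' E' h => key (H91.IsNormalIn.isSubnormalIn h)⟩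
  · obtain ⟨C', h1⟩ := H91.exists_sysIso C (hα.homOn.mono hW)
    have h2 := H91.IsComponentIn.of_sysIso hS hF hC (hα.map.mono hW) h1
    have e := hu _ _ h2
    exact ⟨h1.hom, fun x => by rw [← h1.mem_iff x, e], fun P φ h => (h1.conj P φ h).of_sub
      (comp_sub hS hE h2 hC e.le), fun P φ h => h1.conj' P φ (h.of_sub (comp_sub hS hE hC h2 e.ge))⟩
  · have h1 := key (H91.IsSubnormalIn.trans' (H91.IsNormalIn.isSubnormalIn hD) hC.1) hU
    have h2 := (H91.IsNormalIn.inv hD).sub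
    exact ⟨le_antisymm (H90.sub_le h2) (H90.sub_le h1), fun P => Set.Subset.antisymm (h2 P) (h1 P)⟩

omit h0 in
theorem sc_iSup {κ : Type*} {A : κ → Subgroup Ω} (h : ∀ i, F.StronglyClosed (A i)) :
    F.StronglyClosed (⨆ i, A i) := by
  have := H91.sSup_mem_of_sup_closed (S := S) (A := {Q | F.StronglyClosed Q ∧ Q ≤ ⨆ i, A i})
    (fun Q hQ => hQ.1.1) ⟨⊥, H90.stronglyClosed_bot F, bot_le⟩
    fun Q hQ R hR => ⟨H90.stronglyClosed_sup hS hF hQ.1 hR.1, sup_le hQ.2 hR.2⟩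
  have e := le_antisymm (iSup_le fun i => le_sSup
    (show A i ∈ {Q | F.StronglyClosed Q ∧ Q ≤ ⨆ i, A i} from ⟨h i, le_iSup A i⟩)) this.2
  exact e.symm ▸ this.1

end abstract

variable {G : Type u} [Group G] [Finite G]

theorem comp_nc {S W : Subgroup G} {F : FusionSystem S} {C : FusionSystem W} (hS : IsPGroup 2 S)
    (hF : F.IsSaturated 2) (h0 : F.core = ⊥) (hC : C.IsComponentIn F 2) : NC W := by
  by_contra e
  simp only [NC, not_exists, not_and, not_not] at e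
  let R : Subgroup G :=
    { carrier := {x | x ∈ W ∧ x * x = 1}
      one_mem' := ⟨W.one_mem, mul_one 1⟩
      mul_mem' := fun ha hb => ⟨W.mul_mem ha.1 hb.1, sq_mul ha.2 hb.2 (e _ ha.1 _ hb.1 ha.2 hb.2)⟩
      inv_mem' := fun ha => ⟨W.inv_mem ha.1, by rw [← mul_inv_rev, ha.2, inv_one]⟩ }
  have h1 := ab_bot hS hF h0 hC.1 (R := R) (H91.stronglyClosed_iff'.2 ⟨fun x hx => hx.1,
    fun P f hf x hx h => ⟨hf.mem hx, by rw [← hf.map_mul hx hx, h.2, hf.map_one]⟩⟩)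
    fun x hx y hy => e x hx.1 y hy.1 hx.2 hy.2
  obtain ⟨z, hz, z1, z2⟩ := exists_central (hS.to_le (H90.sub_le (H91.IsSubnormalIn.sub hC.1)))
    (comp_ne_bot hC)
  exact z1 (mem_bot.1 (h1 ▸ (⟨hz.1, z2⟩ : z ∈ R)))

theorem frat (S : Sylow 2 G) {T : Subgroup G} {E : FusionSystem T}
    (hE : E.IsNormalIn (groupFusionSystem (S : Subgroup G)) 2) (g : G) : ∃ n : G,
    (∀ W ≤ T, (∃ C : FusionSystem W, C.IsComponentIn (groupFusionSystem (S : Subgroup G)) 2) →
      ∃ C : FusionSystem (W ^ᶜ n), C.IsComponentIn (groupFusionSystem (S : Subgroup G)) 2) ∧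
    ∀ R, E.StronglyClosed R → ∀ x ∈ R, g * x * g⁻¹ ∈ (S : Subgroup G) → g * x * g⁻¹ ∈ R ^ᶜ n := by
  have hi := H91.IsNormalIn.inv hE
  obtain ⟨α, φ, hα, hφ, e⟩ := hi.fratt (T ⊓ (S : Subgroup G) ^ᶜ g⁻¹) (H90.cj g) inf_le_left
    (H90.map_group.2 ⟨inf_le_left.trans hi.le, fun x hx => by simpa using mem_cj.1 hx.2, g,
      fun x _ => rfl⟩)
  obtain ⟨-, -, n, hn⟩ := H90.map_group.1 hα.map
  refine ⟨n, fun W hW ⟨C, hC⟩ => ?_, fun R hR x hx h1 => ?_⟩
  · obtain ⟨C', h1⟩ := H91.exists_sysIso C (hα.homOn.mono hW)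
    have e1 : H90.im α W = W ^ᶜ n :=
      (H90.im_congr fun x hx => hn x (hW hx)).trans (H90.im_cj_eq_map W n)
    exact e1 ▸ ⟨C', H91.IsComponentIn.of_sysIso S.isPGroup' hE.1.2.1 hC (hα.map.mono hW) h1⟩
  · have h2 : x ∈ T ⊓ (S : Subgroup G) ^ᶜ g⁻¹ := ⟨hR.1 hx, mem_cj.2 (by simpa using h1)⟩
    have h3 := e x h2
    rw [H90.cj_apply, hn _ (hφ.mem h2)] at h3
    exact h3 ▸ cj_mem n (H91.SC.mem hR hφ h2 hx)

theorem comp_unique (k : Keys.{u}) [IsSimpleGroup G] (S : Sylow 2 G)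
    (h0 : (groupFusionSystem (S : Subgroup G)).core = ⊥) {W W' : Subgroup G} {C : FusionSystem W}
    {C' : FusionSystem W'} (hC : C.IsComponentIn (groupFusionSystem (S : Subgroup G)) 2)
    (hC' : C'.IsComponentIn (groupFusionSystem (S : Subgroup G)) 2) : W' = W := by
  have hS := S.isPGroup'
  have hF := H93.isSaturated_groupFusionSystem S
  obtain ⟨T, E, hE⟩ := H90.exists_layer hS hF
  have hi := H91.IsNormalIn.inv hE.1
  let ι := {W : Subgroup G // ∃ C : FusionSystem W,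
    C.IsComponentIn (groupFusionSystem (S : Subgroup G)) 2}
  have sc : ∀ i : ι, E.StronglyClosed i.1 := fun ⟨W, C, hC⟩ => (H90.inv_layer hS hC hE).sc
  have cm : ∀ i j : ι, j ≠ i → j.1 ≤ 𝐂(i.1) := fun ⟨_, _, h1⟩ ⟨_, _, h2⟩ e =>
    comp_comm hS hF h0 hE h1 h2 fun e1 => e (Subtype.ext e1.symm)
  have sc1 := sc_iSup (hS.to_le hi.le) hE.1.1.1 sc
  have sc2 : ∀ i : ι, E.StronglyClosed (⨆ j : {j // j ≠ i}, j.1.1) := fun i =>
    sc_iSup (hS.to_le hi.le) hE.1.1.1 fun j => sc _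
  have cm2 : ∀ i : ι, (⨆ j : {j // j ≠ i}, j.1.1) ≤ 𝐂(i.1) := fun i => iSup_le fun j => cm i j j.2
  have ps : PS ⊤ S (⨆ i : ι, i.1) (fun i : ι => i.1) fun i => ⨆ j : {j // j ≠ i}, j.1.1 := by
    refine ⟨isSylowIn_top S, sc1.1.trans hi.le, fun i => le_antisymm (sup_le (le_iSup _ i)
      (iSup_le fun j => le_iSup (fun i : ι => i.1) j.1)) (iSup_le fun j => ?_), cm2,
      fun i j e => le_iSup (fun j : {j // j ≠ i} => j.1.1) ⟨j, e⟩, fun x hx h1 => ?_,
      fun g _ x hx h1 => ?_, fun g _ => ?_, fun ⟨_, _, h⟩ => comp_nc hS hF h0 h⟩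
    · by_cases e : j = i
      · exact e ▸ le_sup_left
      · exact le_sup_of_le_right (le_iSup (fun j : {j // j ≠ i} => j.1.1) ⟨j, e⟩)
    · have h2 := ab_bot hS hF h0 (H91.IsNormalIn.isSubnormalIn hE.1)
        (R := (⨆ i : ι, i.1) ⊓ ⨅ i : ι, ⨆ j : {j // j ≠ i}, j.1.1)
        (H91.stronglyClosed_iff'.2 ⟨inf_le_left.trans sc1.1, fun P f hf x hx h =>
          ⟨H91.SC.mem sc1 hf hx h.1, mem_iInf.2 fun i => H91.SC.mem (sc2 i) hf hx (mem_iInf.1 h.2 i)⟩⟩)
        fun x hx y hy => (iSup_le (fun i => le_centralizer_iff.1 (zpowers_le.2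
          (cm2 i (mem_iInf.1 hy.2 i)))) : _ ≤ 𝐂(zpowers y)) hx.1 y (mem_zpowers y) |>.symm
      exact mem_bot.1 (h2 ▸ mem_inf.2 ⟨hx, mem_iInf.2 h1⟩)
    · obtain ⟨n, h2, h3⟩ := frat S hE.1 g
      have := h3 _ sc1 x hx h1
      rw [cj_iSup] at this
      exact iSup_le (fun i => le_iSup (fun i : ι => i.1) ⟨_, h2 _ (sc i).1 i.2⟩) this
    · obtain ⟨n, h2, h3⟩ := frat S hE.1 g
      let σ : ι → ι := fun i => ⟨_, h2 _ (sc i).1 i.2⟩
      have hσ : Function.Injective σ := fun i j e => Subtype.ext (cj_inj.1 (congrArg Subtype.val e))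
      refine ⟨Equiv.ofBijective σ (Finite.injective_iff_bijective.1 hσ), fun i x hx h1 => ?_⟩
      have := h3 _ (sc2 i) x hx h1
      rw [cj_iSup] at this
      exact iSup_le (fun j : {j // j ≠ i} =>
        le_iSup (fun j : {j // j ≠ σ i} => j.1.1) ⟨σ j, fun e => j.2 (hσ e)⟩) this
  exact congrArg Subtype.val ((ps.subsingleton k).elim (⟨W', C', hC'⟩ : ι) ⟨W, C, hC⟩)

/-- A simple group either has an elementary abelian strongly closed 2-subgroup, or its 2-fusion system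
is almost simple. -/
theorem fus_main (k : Keys.{u}) [IsSimpleGroup G] (S : Sylow 2 G) (hS : (S : Subgroup G) ≠ ⊥) :
    (∃ A : Subgroup G, IsElementaryAbelian 2 A ∧ A ≠ ⊥ ∧ SC A ⊤) ∨
    ∃ (T : Subgroup G) (E : FusionSystem T), E.IsNormalIn (groupFusionSystem (S : Subgroup G)) 2 ∧
      2 < Nat.card T ∧ E.IsSimple 2 ∧ ∀ (T' : Subgroup G) (E' : FusionSystem T'),
        E'.IsNormalIn (groupFusionSystem (S : Subgroup G)) 2 → T' ≠ ⊥ → E.IsSubsystemOf E' := by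
  have h2 := S.isPGroup'
  have hF := H93.isSaturated_groupFusionSystem S
  by_cases h0 : (groupFusionSystem (S : Subgroup G)).core = ⊥
  · obtain ⟨W, C, hC, -⟩ := exists_comp h2 hF h0 (IsSubnormalIn.refl _ _) hS
    obtain ⟨h3, h4, h5⟩ := almost_simple h2 hF h0 hC fun _ _ h => comp_unique k S h0 hC h
    have hn := comp_nc h2 hF h0 hC
    have hW := h2.to_le (H90.sub_le (H91.IsSubnormalIn.sub hC.1))
    obtain ⟨z, hz, z1, z2⟩ := exists_central hW hn.ne_bot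
    obtain ⟨c, hc, c1, c2, c3, c4⟩ := hn.four hW hz.1 z1 z2
    have h6 := (e4_pair z1 z2 c1 c2 c3 c4).four.trans
      (card_le_of_le (sup_le (zpowers_le.2 hz.1) (zpowers_le.2 hc)))
    exact Or.inr ⟨W, C, h3, by omega, h4, h5⟩
  left
  have hQ := H91.isNormal_core (groupFusionSystem (S : Subgroup G))
  set Q := (groupFusionSystem (S : Subgroup G)).core
  have h3 := H90.stronglyClosed_inf (H91.IsNormal.stronglyClosed' hQ)
    (H91.IsNormal.stronglyClosed_centralizerIn hQ)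
  have h4 : SC (Q ⊓ centralizerIn S Q) ⊤ := sc_of_syl (isSylowIn_top S) h3.1 fun g _ a ha h5 =>
    H91.SC.mem h3 (P := zpowers a) (f := fun x => g * x * g⁻¹) (H90.map_group.2
      ⟨zpowers_le.2 (h3.1 ha), fun x hx => zpowers_le.2 h5 (cj_zpowers a g ▸ cj_mem g hx), g,
        fun _ _ => rfl⟩) (mem_zpowers a) ha
  have hc : Q ⊓ centralizerIn S Q ≤ 𝐂(Q ⊓ centralizerIn S Q) :=
    (inf_le_right.trans inf_le_right).trans (centralizer_anti inf_le_left)
  obtain ⟨z, hz, z1, z2⟩ := exists_central (h2.to_le hQ.1) h0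
  refine ⟨om2 _ hc, ea_of_sq fun a ha => ha.2, fun e => z1 (mem_bot.1 (e.le ?_)),
    h4.om (h2.to_le h3.1) hc⟩
  exact ⟨⟨hz.1, hQ.1 hz.1, hz.2⟩, z2⟩

end H47.PF
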